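import Mathlib
import Cfsg.Prelude.Def_Local

/-!
# S1766: a standard subgroup `A ≅ A_n` whose centralizer contains a four-group: the set-up

`Fam 𝒜 n`: the set `𝒜` of all conjugates of the standard subgroup.  For `A ∈ 𝒜` write `K A = C(A)`, `M A = N(A)`.
-/

set_option autoImplicit false

namespace Cfsg.Agent.FourStd.Basic

open Subgroup

variable {G : Type*} [Group G]

/-- `C_G(A)` -/
abbrev K (A : Subgroup G) : Subgroup G := centralizer (A : Set G)

/-- `N_G(A)` -/
abbrev M (A : Subgroup G) : Subgroup G := normalizer (A : Set G)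

/-- the conjugate `g A g⁻¹` -/
abbrev cj (g : G) (A : Subgroup G) : Subgroup G := A.map (MulAut.conj g).toMonoidHom

/-- The conjugates of a standard subgroup `A ≅ A_n` (`n ≥ 5`) whose centralizer contains a four-group. -/
structure Fam (𝒜 : Set (Subgroup G)) (n : ℕ) : Prop where
  hn : 5 ≤ n
  ne : 𝒜.Nonempty
  conj : ∀ A ∈ 𝒜, ∀ g : G, cj g A ∈ 𝒜
  trans : ∀ A ∈ 𝒜, ∀ B ∈ 𝒜, ∃ g : G, B = cj g A
  iso : ∀ A ∈ 𝒜, Nonempty (A ≃* alternatingGroup (Fin n))
  /-- `C(A)` is tightly embedded -/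
  ti : ∀ A ∈ 𝒜, ∀ B ∈ 𝒜, ∀ t : G, orderOf t = 2 → t ∈ K A → t ∈ K B → A = B
  /-- no member commutes with another one -/
  comm : ∀ A ∈ 𝒜, ∀ B ∈ 𝒜, ¬ B ≤ K A
  /-- `C(A)` contains a four-group -/
  four : ∀ A ∈ 𝒜, ∃ a b : G, a ∈ K A ∧ b ∈ K A ∧ orderOf a = 2 ∧ orderOf b = 2 ∧ a ≠ b ∧ a * b = b * a

theorem mem_cj {g x : G} {A : Subgroup G} : x ∈ cj g A ↔ g⁻¹ * x * g ∈ A := by
  constructor
  · rintro ⟨y, hy, rfl⟩
    have : g⁻¹ * ((MulAut.conj g).toMonoidHom y) * g = y := by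
      simp [MulAut.conj_apply, mul_assoc]
    rw [this]; exact hy
  · intro h
    exact ⟨g⁻¹ * x * g, h, by simp [MulAut.conj_apply, mul_assoc]⟩

theorem conj_mem_cj {g x : G} {A : Subgroup G} (hx : x ∈ A) : g * x * g⁻¹ ∈ cj g A := by
  rw [mem_cj]
  have : g⁻¹ * (g * x * g⁻¹) * g = x := by group
  rw [this]; exact hx

theorem mem_M {A : Subgroup G} {g : G} : g ∈ M A ↔ cj g A = A := by
  constructor
  · intro h
    ext x
    rw [mem_cj]
    have h2 := (mem_normalizer_iff.1 (inv_mem h)) x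
    rw [inv_inv] at h2
    exact h2.symm
  · intro h
    rw [mem_normalizer_iff]
    intro x
    constructor
    · intro hx
      have := conj_mem_cj (g := g) hx
      rwa [h] at this
    · intro hx
      rw [← h, mem_cj] at hx
      have : g⁻¹ * (g * x * g⁻¹) * g = x := by group
      rwa [this] at hx

theorem mem_K {A : Subgroup G} {x : G} : x ∈ K A ↔ ∀ a ∈ A, a * x = x * a := mem_centralizer_iff

theorem K_le_M (A : Subgroup G) : K A ≤ M A := by
  intro x hx
  rw [mem_normalizer_iff]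
  intro a
  constructor
  · intro ha
    have : x * a * x⁻¹ = a := by rw [← mem_K.1 hx a ha, mul_inv_cancel_right]
    rw [this]; exact ha
  · intro ha
    have h1 := mem_K.1 (inv_mem hx) _ ha
    have : a = x * a * x⁻¹ := by
      have h2 : x * a * x⁻¹ * x⁻¹ = x⁻¹ * (x * a * x⁻¹) := h1
      have h3 : x⁻¹ * (x * a * x⁻¹) = a * x⁻¹ := by group
      rw [h3] at h2
      exact (mul_right_cancel h2).symm
    rw [this]; exact ha

theorem A_le_M (A : Subgroup G) : A ≤ M A := le_normalizer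

theorem conj_mem_A {A : Subgroup G} {m a : G} (hm : m ∈ M A) (ha : a ∈ A) : m * a * m⁻¹ ∈ A :=
  (mem_normalizer_iff.1 hm a).1 ha

theorem conj_mem_K {A : Subgroup G} {m k : G} (hm : m ∈ M A) (hk : k ∈ K A) : m * k * m⁻¹ ∈ K A := by
  rw [mem_K] at hk ⊢
  intro a ha
  have h1 : m⁻¹ * a * m ∈ A := by
    have := conj_mem_A (inv_mem hm) ha
    rwa [inv_inv] at this
  have h2 := hk _ h1
  calc a * (m * k * m⁻¹) = m * ((m⁻¹ * a * m) * k) * m⁻¹ := by group
    _ = m * (k * (m⁻¹ * a * m)) * m⁻¹ := by rw [h2]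
    _ = m * k * m⁻¹ * a := by group

theorem mem_K_cj {A : Subgroup G} {g x : G} : x ∈ K (cj g A) ↔ g⁻¹ * x * g ∈ K A := by
  rw [mem_K, mem_K]
  constructor
  · intro h a ha
    have h1 := h _ (conj_mem_cj (g := g) ha)
    calc a * (g⁻¹ * x * g) = g⁻¹ * ((g * a * g⁻¹) * x) * g := by group
      _ = g⁻¹ * (x * (g * a * g⁻¹)) * g := by rw [h1]
      _ = g⁻¹ * x * g * a := by group
  · intro h a ha
    have h1 := h _ (mem_cj.1 ha)
    calc a * x = g * ((g⁻¹ * a * g) * (g⁻¹ * x * g)) * g⁻¹ := by group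
      _ = g * ((g⁻¹ * x * g) * (g⁻¹ * a * g)) * g⁻¹ := by rw [h1]
      _ = x * a := by group

theorem mem_M_cj {A : Subgroup G} {g x : G} : x ∈ M (cj g A) ↔ g⁻¹ * x * g ∈ M A := by
  rw [mem_M, mem_M]
  have key : ∀ (a b : G) (C : Subgroup G), cj a (cj b C) = cj (a * b) C := by
    intro a b C
    ext y
    rw [mem_cj, mem_cj, mem_cj]
    have : b⁻¹ * (a⁻¹ * y * a) * b = (a * b)⁻¹ * y * (a * b) := by group
    rw [this]
  have kinj : ∀ (a : G) (C D : Subgroup G), cj a C = cj a D → C = D := by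
    intro a C D h
    ext y
    have h1 : a * y * a⁻¹ ∈ cj a C ↔ a * y * a⁻¹ ∈ cj a D := by rw [h]
    rw [mem_cj, mem_cj] at h1
    have : a⁻¹ * (a * y * a⁻¹) * a = y := by group
    rwa [this] at h1
  rw [key]
  constructor
  · intro h
    apply kinj g
    rw [key]
    have : g * (g⁻¹ * x * g) = x * g := by group
    rw [this]; exact h
  · intro h
    have h1 : cj g (cj (g⁻¹ * x * g) A) = cj g A := by rw [h]
    rw [key] at h1
    have : g * (g⁻¹ * x * g) = x * g := by group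
    rwa [this] at h1

theorem cj_cj (a b : G) (C : Subgroup G) : cj a (cj b C) = cj (a * b) C := by
  ext y
  rw [mem_cj, mem_cj, mem_cj]
  have : b⁻¹ * (a⁻¹ * y * a) * b = (a * b)⁻¹ * y * (a * b) := by group
  rw [this]

theorem cj_one (C : Subgroup G) : cj 1 C = C := by
  ext y
  rw [mem_cj]; simp

namespace Fam

variable {𝒜 : Set (Subgroup G)} {n : ℕ}

/-- `N_G`-control: an element conjugating an involution of `K A` into `K A` lies in `M A` -/
theorem mem_M_of (F : Fam 𝒜 n) {A : Subgroup G} (hA : A ∈ 𝒜) {t g : G} (ht : orderOf t = 2) (htK : t ∈ K A)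
    (hg : g * t * g⁻¹ ∈ K A) : g ∈ M A := by
  rw [mem_M]
  symm
  refine F.ti A hA _ (F.conj A hA g) (g * t * g⁻¹) ?_ hg ?_
  · have := orderOf_injective (MulAut.conj g).toMonoidHom (MulAut.conj g).injective t
    rw [← ht]; exact this
  · rw [mem_K_cj]
    have : g⁻¹ * (g * t * g⁻¹) * g = t := by group
    rw [this]; exact htK

theorem cent_le (F : Fam 𝒜 n) {A : Subgroup G} (hA : A ∈ 𝒜) {t : G} (ht : orderOf t = 2) (htK : t ∈ K A) :
    centralizer {t} ≤ M A := by
  intro g hg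
  apply F.mem_M_of hA ht htK
  have : g * t * g⁻¹ = t := by
    rw [(mem_centralizer_singleton_iff.1 hg)]; group
  rw [this]; exact htK

theorem isSimple (F : Fam 𝒜 n) {A : Subgroup G} (hA : A ∈ 𝒜) : IsSimpleGroup A := by
  obtain ⟨e⟩ := F.iso A hA
  have : IsSimpleGroup (alternatingGroup (Fin n)) :=
    alternatingGroup.isSimpleGroup (by rw [Nat.card_eq_fintype_card, Fintype.card_fin]; exact F.hn)
  exact e.symm.isSimpleGroup_congr.1 this

end Fam

end Cfsg.Agent.FourStd.Basic
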