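import Mathlib
import Cfsg.Prelude.Def_Local
import Cfsg.Prelude.Def_TwoFusion
import Cfsg.Agent.FourStd.Basic

/-!
# S1766, piece P0: a fused pair exists (from S1173)
-/

set_option autoImplicit false

namespace Cfsg.Agent.FourStd.Fused

open Subgroup Cfsg.Agent.FourStd.Basic
open scoped commutatorElement

variable {G : Type*} [Group G]

theorem orderOf_conj (g t : G) : orderOf (g * t * g⁻¹) = orderOf t :=
  orderOf_injective (MulAut.conj g).toMonoidHom (MulAut.conj g).injective t

/-- two distinct normal simple non-commuting subgroups of `P` coincide -/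
theorem eq_of_normalize {A B : Subgroup G} (hA : IsSimpleGroup A) (hB : IsSimpleGroup B)
    (hAB : ∀ a ∈ A, a ∈ normalizer (B : Set G)) (hBA : ∀ b ∈ B, b ∈ normalizer (A : Set G))
    (hc : ¬ B ≤ centralizer (A : Set G)) : A = B := by
  -- `A ⊓ B` is normal in both
  have h1 : ((A ⊓ B).subgroupOf A).Normal := by
    constructor
    intro x hx a
    rw [mem_subgroupOf] at hx ⊢
    refine ⟨?_, ?_⟩
    · exact (a * x * a⁻¹).2
    · have := (mem_normalizer_iff.1 (hAB _ a.2) (x : G)).1 hx.2
      simpa using this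
  have h2 : ((A ⊓ B).subgroupOf B).Normal := by
    constructor
    intro x hx b
    rw [mem_subgroupOf] at hx ⊢
    refine ⟨?_, ?_⟩
    · have := (mem_normalizer_iff.1 (hBA _ b.2) (x : G)).1 hx.1
      simpa using this
    · exact (b * x * b⁻¹).2
  rcases h1.eq_bot_or_eq_top with h | h
  · exfalso
    apply hc
    have h3 : A ⊓ B = ⊥ := by
      rw [subgroupOf_eq_bot] at h
      have h4 := disjoint_iff.1 h
      rwa [inf_assoc, inf_comm B A, ← inf_assoc, inf_idem] at h4
    intro b hb
    rw [mem_centralizer_iff]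
    intro a ha
    have h5 : a * b * a⁻¹ * b⁻¹ ∈ A ⊓ B := by
      refine ⟨?_, ?_⟩
      · have h6 := (mem_normalizer_iff.1 (hBA b hb) a⁻¹).1 (inv_mem ha)
        have h7 := mul_mem ha h6
        have h8 : a * (b * a⁻¹ * b⁻¹) = a * b * a⁻¹ * b⁻¹ := by group
        rwa [h8] at h7
      · exact B.mul_mem ((mem_normalizer_iff.1 (hAB a ha) b).1 hb) (B.inv_mem hb)
    rw [h3, mem_bot] at h5
    have h6 : a * b * a⁻¹ = b := mul_inv_eq_one.1 h5
    calc a * b = a * b * a⁻¹ * a := by group
      _ = b * a := by rw [h6]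
  · rw [subgroupOf_eq_top] at h
    rcases h2.eq_bot_or_eq_top with h' | h'
    · exfalso
      have h3 : A ⊓ B = ⊥ := by
        rw [subgroupOf_eq_bot] at h'
        have h4 := disjoint_iff.1 h'
        rwa [inf_assoc, inf_idem] at h4
      have h5 : A = ⊥ := by
        rw [eq_bot_iff, ← h3]; exact h
      have : Nontrivial A := hA.toNontrivial
      rw [h5] at this
      exact not_nontrivial _ this
    · rw [subgroupOf_eq_top] at h'
      exact le_antisymm (h.trans inf_le_right) (h'.trans inf_le_left)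

/-- the perfect core of a subgroup `C` contains every perfect subgroup of `C` -/
theorem le_perfectCore {C A : Subgroup G} (hAC : A ≤ C) (hA : ⁅A, A⁆ = A) :
    A ≤ (⨅ n : ℕ, derivedSeries ↥C n).map C.subtype := by
  have h1 : ∀ n : ℕ, A.subgroupOf C ≤ derivedSeries ↥C n := by
    intro n
    induction n with
    | zero => exact le_top
    | succ n ih =>
      rw [derivedSeries_succ]
      have h2 : A.subgroupOf C ≤ ⁅A.subgroupOf C, A.subgroupOf C⁆ := by
        have h3 : (⁅A.subgroupOf C, A.subgroupOf C⁆).map C.subtype = A := by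
          rw [map_commutator, map_subgroupOf_eq_of_le hAC, hA]
        intro x hx
        have h4 : (x : G) ∈ (⁅A.subgroupOf C, A.subgroupOf C⁆).map C.subtype := by
          rw [h3]; exact hx
        obtain ⟨y, hy, hyx⟩ := h4
        have : y = x := Subtype.ext hyx
        rwa [this] at hy
      exact h2.trans (commutator_mono ih ih)
  intro a ha
  refine ⟨⟨a, hAC ha⟩, ?_, rfl⟩
  rw [SetLike.mem_coe, mem_iInf]
  intro n
  exact h1 n ha

theorem exists_involution_pow [Finite G] {S : Subgroup G} (hS : IsPGroup 2 S) {x : G} (hx : x ∈ S)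
    (hx1 : x ≠ 1) : ∃ k : ℕ, orderOf (x ^ k) = 2 := by
  obtain ⟨k, hk⟩ := hS ⟨x, hx⟩
  have h1 : x ^ (2 ^ k) = 1 := by
    have := congrArg Subtype.val hk
    simpa using this
  have h2 : orderOf x ∣ 2 ^ k := orderOf_dvd_of_pow_eq_one h1
  obtain ⟨m, hm, hm2⟩ := (Nat.dvd_prime_pow Nat.prime_two).1 h2
  have hm0 : m ≠ 0 := by
    rintro rfl
    rw [pow_zero, orderOf_eq_one_iff] at hm2
    exact hx1 hm2
  refine ⟨2 ^ (m - 1), ?_⟩
  have h3 : orderOf x = 2 ^ (m - 1) * 2 := by
    rw [hm2, ← pow_succ, Nat.sub_add_cancel (Nat.one_le_iff_ne_zero.2 hm0)]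
  rw [orderOf_pow, h3, Nat.gcd_eq_right (Dvd.intro _ rfl)]
  exact Nat.mul_div_cancel_left 2 (by positivity)

/-- A `2`-group meeting a proper subgroup in a subgroup `P` has an element of `N_S(P)` outside it. -/
theorem exists_mem_normalizer [Finite G] {S M : Subgroup G} (hS : IsPGroup 2 S) (h : ¬ S ≤ M) :
    ∃ g ∈ S, g ∉ M ∧ ∀ x, x ∈ S → x ∈ M → g * x * g⁻¹ ∈ M := by
  have : Fact (Nat.Prime 2) := ⟨Nat.prime_two⟩
  have hnil : Group.IsNilpotent S := hS.isNilpotent
  have h1 : M.subgroupOf S < ⊤ := by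
    rw [lt_top_iff_ne_top, Ne, subgroupOf_eq_top]; exact h
  have h2 := Group.normalizerCondition_of_isNilpotent (M.subgroupOf S) h1
  obtain ⟨g, hg, hg2⟩ := SetLike.exists_of_lt h2
  refine ⟨g, g.2, hg2, ?_⟩
  intro x hx hxM
  exact (mem_normalizer_iff.1 hg ⟨x, hx⟩).1 hxM

/-- P0: there are distinct `A, B` in the family and an involution of `C(B)` normalizing `A`. -/
theorem exists_fused [Finite G] {𝒜 : Set (Subgroup G)} {n : ℕ}
    (h1173 : ∀ (S : Sylow 2 G) (T : Subgroup G), Cfsg.IsStronglyClosed T (S : Subgroup G) →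
      ((⨅ n : ℕ, derivedSeries ↥(centralizer (T : Set G)) n).map
        (centralizer (T : Set G)).subtype).Normal)
    (F : Fam 𝒜 n) (hna : ∀ A ∈ 𝒜, ¬ A.Normal) :
    ∃ A ∈ 𝒜, ∃ B ∈ 𝒜, A ≠ B ∧ ∃ t ∈ K B, t ∈ M A ∧ orderOf t = 2 := by
  by_contra hcon
  push Not at hcon
  obtain ⟨A, hA⟩ := F.ne
  -- control
  have hctl : ∀ z g : G, orderOf z = 2 → z ∈ K A → g * z * g⁻¹ ∈ M A → g ∈ M A := by
    intro z g hz hzK hg
    rw [mem_M]
    by_contra hne
    refine hcon A hA (cj g A) (F.conj A hA g) (Ne.symm hne) (g * z * g⁻¹) ?_ hg ?_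
    · rw [mem_K_cj]
      have : g⁻¹ * (g * z * g⁻¹) * g = z := by group
      rw [this]; exact hzK
    · rw [orderOf_conj]; exact hz
  obtain ⟨a, _, haK, _, ha2, _, _, _⟩ := F.four A hA
  have : Fact (Nat.Prime 2) := ⟨Nat.prime_two⟩
  -- a Sylow 2-subgroup of `M A` containing `a`
  have haM : a ∈ M A := K_le_M A haK
  have hpa : IsPGroup 2 (zpowers (⟨a, haM⟩ : M A)) := by
    rw [IsPGroup.iff_card, Nat.card_zpowers]
    refine ⟨1, ?_⟩
    rw [pow_one, ← ha2]
    exact (orderOf_injective (M A).subtype (M A).subtype_injective ⟨a, haM⟩).symm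
  obtain ⟨P, hP⟩ := hpa.exists_le_sylow
  obtain ⟨S, hS⟩ := P.exists_comap_subtype_eq
  have haS : a ∈ (S : Subgroup G) := by
    have h1 : (⟨a, haM⟩ : M A) ∈ (P : Subgroup (M A)) := hP (mem_zpowers _)
    have h2 : (⟨a, haM⟩ : M A) ∈ ((S : Subgroup G).comap (M A).subtype) := by
      rw [hS]; exact h1
    exact h2
  -- `S ≤ M A`
  have hSM : (S : Subgroup G) ≤ M A := by
    by_contra hnot
    obtain ⟨g, hgS, hgM, hg⟩ := exists_mem_normalizer S.isPGroup' hnot
    exact hgM (hctl a g ha2 haK (hg a haS haM))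
  set T : Subgroup G := (S : Subgroup G) ⊓ K A with hTdef
  have hsc : Cfsg.IsStronglyClosed T (S : Subgroup G) := by
    refine ⟨inf_le_left, ?_⟩
    intro x hx g hg
    by_cases hx1 : x = 1
    · subst hx1; simp
    obtain ⟨k, hk⟩ := exists_involution_pow S.isPGroup' hx.1 hx1
    have hgM : g ∈ M A := by
      refine hctl (x ^ k) g hk (pow_mem hx.2 k) ?_
      rw [← conj_pow]
      exact pow_mem (hSM hg) k
    exact ⟨hg, conj_mem_K hgM hx.2⟩
  have hN := h1173 S T hsc
  set Q : Subgroup G := (⨅ n : ℕ, derivedSeries ↥(centralizer (T : Set G)) n).map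
        (centralizer (T : Set G)).subtype with hQ
  have hQM : Q ≤ M A := by
    intro x hx
    obtain ⟨y, _, rfl⟩ := hx
    apply F.cent_le hA ha2 haK
    rw [mem_centralizer_singleton_iff]
    have := mem_centralizer_iff.1 y.2 a ⟨haS, haK⟩
    exact this.symm
  have hAs : IsSimpleGroup A := F.isSimple hA
  have hAperf : ⁅(A : Subgroup G), (A : Subgroup G)⁆ = A := by
    -- `A` simple nonabelian
    have h1 : _root_.commutator A = ⊤ ∨ _root_.commutator A = ⊥ := by
      rcases (inferInstance : (_root_.commutator A).Normal).eq_bot_or_eq_top with h | h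
      · exact Or.inr h
      · exact Or.inl h
    rcases h1 with h | h
    · have h2 : (_root_.commutator A).map A.subtype = A := by
        rw [h, ← MonoidHom.range_eq_map, range_subtype]
      rwa [_root_.commutator_def, map_commutator, ← MonoidHom.range_eq_map, range_subtype] at h2
    · exfalso
      apply F.comm A hA A hA
      intro x hx
      rw [mem_K]
      intro y hy
      have h3 : ⁅(⟨y, hy⟩ : A), (⟨x, hx⟩ : A)⁆ ∈ _root_.commutator A :=
        commutator_mem_commutator (mem_top _) (mem_top _)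
      rw [h, mem_bot, commutatorElement_eq_one_iff_mul_comm] at h3
      exact congrArg Subtype.val h3
  have hAQ : A ≤ Q := by
    apply le_perfectCore _ hAperf
    intro x hx
    rw [mem_centralizer_iff]
    intro t ht
    exact (mem_K.1 ht.2 x hx).symm
  apply hna A hA
  constructor
  intro x hx g
  have hB := F.conj A hA g
  have hBs : IsSimpleGroup (cj g A : Subgroup G) := F.isSimple hB
  have hBQ : cj g A ≤ Q := by
    intro y hy
    rw [mem_cj] at hy
    have := hN.conj_mem _ (hAQ hy) g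
    have h4 : g * (g⁻¹ * y * g) * g⁻¹ = y := by group
    rwa [h4] at this
  have hQM' : Q ≤ M (cj g A) := by
    intro y hy
    rw [mem_M_cj]
    apply hQM
    have := hN.conj_mem _ hy g⁻¹
    rwa [inv_inv] at this
  have heq : A = cj g A :=
    eq_of_normalize hAs hBs (fun a ha => hQM' (hAQ ha)) (fun b hb => hQM (hBQ hb))
      (F.comm A hA _ hB)
  rw [heq]
  exact conj_mem_cj hx

end Cfsg.Agent.FourStd.Fused
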