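import Cfsg.Agent.FourStd.Basic

/-!
# S1766: the interface of the pieces (see `blueprints/S1766.md` in the repository)
-/

set_option autoImplicit false

namespace Cfsg.Agent.FourStd.Iface

open Subgroup Equiv Cfsg.Agent.FourStd.Basic

variable {G : Type*} [Group G]

/-- Some involution of `K B` induces an inner automorphism on `A` (and normalizes `A`). -/
def Inner (A B : Subgroup G) : Prop :=
  ∃ s α β : G, orderOf s = 2 ∧ s ∈ K B ∧ α ∈ A ∧ β ∈ K A ∧ s = α * β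

/-- There are two commuting involutions of `K B` which normalize `A`. -/
def Four (A B : Subgroup G) : Prop :=
  ∃ a b : G, a ∈ K B ∧ b ∈ K B ∧ a ∈ M A ∧ b ∈ M A ∧ orderOf a = 2 ∧ orderOf b = 2 ∧ a ≠ b ∧ a * b = b * a

/-- `ψ` identifies `A_n` with `A`, and `N(A)` acts on `A` by permutations. -/
structure Lab {n : ℕ} (A : Subgroup G) (ψ : alternatingGroup (Fin n) →* G) : Prop where
  inj : Function.Injective ψ
  range : ψ.range = A
  act : ∀ m ∈ M A, ∃ σ : Perm (Fin n), ∀ x, m * ψ x * m⁻¹ = ψ (MulAut.conjNormal σ x)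

/-- The structure of a pair `A ≠ B` with respect to the labelling `ψ` of `A`: `A ∩ K B` is the alternating group on
the 4-set `Γ`. -/
structure Good {n : ℕ} (A B : Subgroup G) (ψ : alternatingGroup (Fin n) →* G) (Γ : Finset (Fin n)) : Prop where
  card : Γ.card = 4
  memK : ∀ x, ψ x ∈ K B ↔ (x : Perm (Fin n)).support ⊆ Γ
  memM : ∀ x, ψ x ∈ M B ↔ ∀ i, i ∈ Γ ↔ (x : Perm (Fin n)) i ∈ Γ
  leM : K B ≤ M A
  decomp : ∀ k ∈ K B, ∃ x : alternatingGroup (Fin n), (x : Perm (Fin n)).support ⊆ Γ ∧ k * (ψ x)⁻¹ ∈ K A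

/-- What is proved about the family for `n ≥ 6`. -/
def GoodFam (𝒜 : Set (Subgroup G)) (n : ℕ) : Prop :=
  ∀ A ∈ 𝒜, ∃ ψ : alternatingGroup (Fin n) →* G, Lab A ψ ∧
    ∀ B ∈ 𝒜, A ≠ B → Inner A B → Inner B A ∧ ∃ Γ : Finset (Fin n), Good A B ψ Γ

end Cfsg.Agent.FourStd.Iface
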